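import Groth.Agent.Lib.LimSmooth.Affine
import Groth.Agent.Lib.DiagGrp.KernelFP

/-!
# Properties local on the source descend along limits, and the neighbourhood versions
-/

set_option autoImplicit false
set_option backward.isDefEq.respectTransparency false
set_option linter.style.haveILetI false
universe u

open CategoryTheory Limits AlgebraicGeometry

noncomputable section

namespace GrothLib.LimSmooth

open GrothLib.LimDesc

/-- A morphism stable under base change may be cancelled by a monomorphism on the target. -/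
theorem of_comp_mono (P : MorphismProperty Scheme.{u}) [P.IsStableUnderBaseChange] {A B C : Scheme.{u}}
    (f : A ⟶ B) (g : B ⟶ C) [Mono g] (h : P (f ≫ g)) : P f := by
  refine MorphismProperty.of_isPullback (P := P) (f' := 𝟙 A) (f := g) (g := f ≫ g) ?_ h
  refine IsPullback.of_isLimit (PullbackCone.IsLimit.mk (by simp) (fun s => s.fst) (fun s => by simp)
    (fun s => (cancel_mono g).mp ?_) (fun s m h1 _ => by simpa using h1))
  simpa using s.condition

variable {I : Type u} [SmallCategory I] [IsCofiltered I] (D : I ⥤ Scheme.{u}) {c : Cone D}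
  (hc : IsLimit c) [∀ (i j : I) (f : i ⟶ j), IsAffineHom (D.map f)] {i₀ : I}
  {X₀ Y₀ : Scheme.{u}} (f₀ : X₀ ⟶ Y₀) (g₀ : Y₀ ⟶ D.obj i₀) {X Y : Scheme.{u}} {f : X ⟶ Y}
  {g : Y ⟶ c.pt} {qY : Y ⟶ Y₀} {qX : X ⟶ X₀}
  (hY : IsPullback qY g g₀ (c.π.app i₀)) (hX : IsPullback qX f f₀ qY)

include hc hY hX in
/-- The stage on an affine piece of the source over an affine piece of the target. -/
theorem exists_stage_affine_piece [LocallyOfFinitePresentation f₀] (P : MorphismProperty Scheme.{u})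
    [P.IsStableUnderBaseChange] [IsZariskiLocalAtSource P] (H : AffineCase P) (hf : P f)
    (U : X₀.Opens) (V : Y₀.Opens) (hU : IsAffineOpen U) (hV : IsAffineOpen V) (e : U ≤ f₀ ⁻¹ᵁ V) :
    ∃ k : Over i₀, P ((mapNat D i₀ (V.ι ≫ g₀) (U.ι ≫ f₀ ≫ g₀) (f₀.resLE V U e)
      (by rw [Scheme.Hom.resLE_comp_ι_assoc])).app k) := by
  haveI : IsAffine V.toScheme := hV
  haveI : IsAffine U.toScheme := hU
  let u := f₀.resLE V U e
  have hu : u ≫ V.ι ≫ g₀ = U.ι ≫ f₀ ≫ g₀ := by rw [Scheme.Hom.resLE_comp_ι_assoc]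
  haveI : LocallyOfFinitePresentation u := of_comp_mono @LocallyOfFinitePresentation u V.ι (by
    rw [Scheme.Hom.resLE_comp_ι]; infer_instance)
  have hVY : IsPullback (pullback.fst V.ι qY) (pullback.snd V.ι qY ≫ g) (V.ι ≫ g₀) (c.π.app i₀) :=
    (IsPullback.of_hasPullback V.ι qY).paste_vert hY
  have hUX : IsPullback (pullback.fst U.ι qX) (pullback.snd U.ι qX ≫ f ≫ g) (U.ι ≫ f₀ ≫ g₀)
      (c.π.app i₀) :=
    (IsPullback.of_hasPullback U.ι qX).paste_vert (hX.paste_vert hY)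
  let fU : pullback U.ι qX ⟶ pullback V.ι qY :=
    pullback.lift (pullback.fst _ _ ≫ u) (pullback.snd _ _ ≫ f)
      (by rw [Category.assoc, Category.assoc, Scheme.Hom.resLE_comp_ι, pullback.condition_assoc, hX.w])
  have hfU : P fU := by
    refine of_comp_mono P fU (pullback.snd V.ι qY) ?_
    rw [pullback.lift_snd]
    exact IsZariskiLocalAtSource.comp hf _
  have hsq := isPullback_π D i₀ (V.ι ≫ g₀) (U.ι ≫ f₀ ≫ g₀) hVY u hu hUX fU
    (pullback.lift_fst _ _ _) (by simp [fU]) (Over.mk (𝟙 i₀))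
  let top : Over i₀ := Over.mk (𝟙 i₀)
  haveI : IsAffine ((diag D i₀ (V.ι ≫ g₀)).obj top) :=
    isAffine_of_isAffineHom (pullback.fst (V.ι ≫ g₀) (D.map top.hom))
  haveI : IsAffine ((diag D i₀ (U.ι ≫ f₀ ≫ g₀)).obj top) :=
    isAffine_of_isAffineHom (pullback.fst (U.ι ≫ f₀ ≫ g₀) (D.map top.hom))
  haveI : LocallyOfFinitePresentation ((mapNat D i₀ (V.ι ≫ g₀) (U.ι ≫ f₀ ≫ g₀) u hu).app top) :=
    MorphismProperty.of_isPullback (P := @LocallyOfFinitePresentation)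
      (isPullback_mapNat D i₀ (V.ι ≫ g₀) (U.ι ≫ f₀ ≫ g₀) u hu top) inferInstance
  haveI (j k : Over i₀) (φ : j ⟶ k) : IsAffineHom ((diag D i₀ (V.ι ≫ g₀)).map φ) :=
    isAffineHom_map D i₀ (V.ι ≫ g₀) φ
  obtain ⟨j, hj⟩ := H (diag D i₀ (V.ι ≫ g₀)) _ (isLimitCone D i₀ (V.ι ≫ g₀) hVY hc) top
    ((mapNat D i₀ (V.ι ≫ g₀) (U.ι ≫ f₀ ≫ g₀) u hu).app top) hsq hfU
  refine ⟨j.left, ?_⟩
  have h := isPullback_mapNat_map D i₀ (V.ι ≫ g₀) (U.ι ≫ f₀ ≫ g₀) u hu j.hom
  rw [← h.isoPullback_hom_snd]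
  exact (P.cancel_left_of_respectsIso _ _).mpr hj

include hc hY hX in
/-- **Descent of a property local on the source**, for a quasi-compact source. -/
theorem exists_stage_of_affineCase [LocallyOfFinitePresentation f₀] [CompactSpace X₀]
    (P : MorphismProperty Scheme.{u}) [P.IsStableUnderBaseChange] [IsZariskiLocalAtSource P]
    (hcomp : ∀ {A B C : Scheme.{u}} (a : A ⟶ B) (b : B ⟶ C) [IsOpenImmersion b], P a → P (a ≫ b))
    (H : AffineCase P) (hf : P f) :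
    ∃ j : Over i₀, P ((mapNat D i₀ g₀ (f₀ ≫ g₀) f₀ rfl).app j) := by
  have hex : ∀ x : X₀, ∃ (U : X₀.Opens) (V : Y₀.Opens),
      IsAffineOpen U ∧ IsAffineOpen V ∧ x ∈ U ∧ U ≤ f₀ ⁻¹ᵁ V := fun x => by
    obtain ⟨V, hV, hxV, -⟩ := exists_isAffineOpen_mem_and_subset (show f₀ x ∈ (⊤ : Y₀.Opens) from trivial)
    obtain ⟨U, hU, hxU, e⟩ := exists_isAffineOpen_mem_and_subset (show x ∈ f₀ ⁻¹ᵁ V from hxV)
    exact ⟨U, V, hU, hV, hxU, e⟩
  choose U V hU hV hxU hUV using hex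
  obtain ⟨t, ht⟩ := CompactSpace.elim_nhds_subcover (fun x => (U x : Set X₀))
    (fun x => (U x).2.mem_nhds (hxU x))
  choose jx hjx using fun x : {x // x ∈ t} =>
    exists_stage_affine_piece D hc f₀ g₀ hY hX P H hf (U x.1) (V x.1) (hU x.1) (hV x.1) (hUV x.1)
  obtain ⟨k, -, φ, -⟩ := IsCofiltered.wideCospan (I := {x // x ∈ t}) (i := Over.mk (𝟙 i₀))
    (fun x => (Over.homMk (jx x).hom : jx x ⟶ Over.mk (𝟙 i₀)))
  refine ⟨k, ?_⟩
  let N := (mapNat D i₀ g₀ (f₀ ≫ g₀) f₀ rfl).app k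
  let incl := fun x : {x // x ∈ t} =>
    (mapNat D i₀ (f₀ ≫ g₀) ((U x.1).ι ≫ f₀ ≫ g₀) (U x.1).ι rfl).app k
  have hoi : ∀ x, IsOpenImmersion (incl x) := fun x =>
    MorphismProperty.of_isPullback (P := @IsOpenImmersion)
      (isPullback_mapNat D i₀ (f₀ ≫ g₀) _ (U x.1).ι rfl k) inferInstance
  refine (IsZariskiLocalAtSource.iff_of_iSup_eq_top (P := P)
    (fun x => haveI := hoi x; (incl x).opensRange) (top_le_iff.mp fun z _ => ?_)).mpr fun x => ?_
  · obtain ⟨x, hxt, hz⟩ := Set.mem_iUnion₂.mp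
      (ht.ge (Set.mem_univ (pullback.fst (f₀ ≫ g₀) (D.map k.hom) z)))
    refine TopologicalSpace.Opens.mem_iSup.mpr ⟨⟨x, hxt⟩, ?_⟩
    obtain ⟨p, -, hp⟩ := Scheme.exists_preimage_of_isPullback
      (isPullback_mapNat D i₀ (f₀ ≫ g₀) _ (U x).ι rfl k) (⟨_, hz⟩ : (U x).toScheme) z rfl
    exact ⟨p, hp⟩
  · haveI := hoi x
    rw [← Scheme.Hom.isoOpensRange_inv_comp, Category.assoc, P.cancel_left_of_respectsIso]
    have hu : f₀.resLE (V x.1) (U x.1) (hUV x.1) ≫ (V x.1).ι ≫ g₀ = (U x.1).ι ≫ f₀ ≫ g₀ := by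
      rw [Scheme.Hom.resLE_comp_ι_assoc]
    let inclV := (mapNat D i₀ g₀ ((V x.1).ι ≫ g₀) (V x.1).ι rfl).app k
    haveI : IsOpenImmersion inclV := MorphismProperty.of_isPullback (P := @IsOpenImmersion)
      (isPullback_mapNat D i₀ g₀ _ (V x.1).ι rfl k) inferInstance
    have heq : incl x ≫ N = (mapNat D i₀ ((V x.1).ι ≫ g₀) ((U x.1).ι ≫ f₀ ≫ g₀)
        (f₀.resLE (V x.1) (U x.1) (hUV x.1)) hu).app k ≫ inclV := by
      apply pullback.hom_ext
      · simp [incl, inclV, N, mapNat_fst, mapNat_fst_assoc, Scheme.Hom.resLE_comp_ι]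
      · simp [incl, inclV, N, mapNat_snd]
    rw [show incl x ≫ (mapNat D i₀ g₀ (f₀ ≫ g₀) f₀ rfl).app k = _ from heq]
    exact hcomp _ _ (MorphismProperty.of_isPullback (P := P)
      (isPullback_mapNat_map D i₀ ((V x.1).ι ≫ g₀) ((U x.1).ι ≫ f₀ ≫ g₀) _ hu (φ x)) (hjx x))

omit [IsCofiltered I] [∀ (i j : I) (f : i ⟶ j), IsAffineHom (D.map f)] in
include hY hX in
/-- The projection of the limit to a stage given by pullback squares. -/
theorem exists_isPullback_stage {j : I} {φ : j ⟶ i₀} {Xj Yj : Scheme.{u}} {fj : Xj ⟶ Yj}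
    {gj : Yj ⟶ D.obj j} {pY : Yj ⟶ Y₀} {pX : Xj ⟶ X₀} (hYj : IsPullback pY gj g₀ (D.map φ))
    (hXj : IsPullback pX fj f₀ pY) :
    ∃ (rX : X ⟶ Xj) (rY : Y ⟶ Yj), IsPullback rX f fj rY ∧ rX ≫ pX = qX ∧ rY ≫ gj = g ≫ c.π.app j ∧
      rY ≫ pY = qY := by
  have w : qY ≫ g₀ = (g ≫ c.π.app j) ≫ D.map φ := by rw [Category.assoc, c.w, hY.w]
  let rY := hYj.lift qY (g ≫ c.π.app j) w
  have w' : qX ≫ f₀ = (f ≫ rY) ≫ pY := by rw [Category.assoc, IsPullback.lift_fst, hX.w]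
  refine ⟨hXj.lift qX (f ≫ rY) w', rY, ?_, hXj.lift_fst _ _ _, hYj.lift_snd _ _ _, hYj.lift_fst _ _ _⟩
  refine IsPullback.of_right ?_ (hXj.lift_snd _ _ _) hXj
  rw [hXj.lift_fst, hYj.lift_fst]
  exact hX

include hc hY hX in
/-- **A property local on the source holds on the limit iff it holds at some stage.** -/
theorem iff_exists_stage [LocallyOfFinitePresentation f₀] [CompactSpace X₀]
    (P : MorphismProperty Scheme.{u}) [P.IsStableUnderBaseChange] [IsZariskiLocalAtSource P]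
    (hcomp : ∀ {A B C : Scheme.{u}} (a : A ⟶ B) (b : B ⟶ C) [IsOpenImmersion b], P a → P (a ≫ b))
    (H : AffineCase P) :
    P f ↔ ∃ (j : I) (φ : j ⟶ i₀) (Xj Yj : Scheme.{u}) (fj : Xj ⟶ Yj) (gj : Yj ⟶ D.obj j) (pY : Yj ⟶ Y₀)
      (pX : Xj ⟶ X₀), IsPullback pY gj g₀ (D.map φ) ∧ IsPullback pX fj f₀ pY ∧ P fj := by
  constructor
  · exact fun hf => exists_stage D i₀ f₀ g₀ (@P)
      (exists_stage_of_affineCase D hc f₀ g₀ hY hX P hcomp H hf)
  · rintro ⟨j, φ, Xj, Yj, fj, gj, pY, pX, hYj, hXj, hj⟩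
    obtain ⟨rX, rY, h, -⟩ := exists_isPullback_stage D f₀ g₀ hY hX hYj hXj
    exact MorphismProperty.of_isPullback h hj

include hc hY hX in
/-- **A property local on the source holds near a point of the limit iff it holds near its image at
some stage.** -/
theorem nhd_iff_exists_stage [LocallyOfFinitePresentation f₀]
    (P : MorphismProperty Scheme.{u}) [P.IsStableUnderBaseChange] [IsZariskiLocalAtSource P]
    (hcomp : ∀ {A B C : Scheme.{u}} (a : A ⟶ B) (b : B ⟶ C) [IsOpenImmersion b], P a → P (a ≫ b))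
    (H : AffineCase P) (x : X) :
    (∃ U : X.Opens, x ∈ U ∧ P (U.ι ≫ f)) ↔
      ∃ (j : I) (φ : j ⟶ i₀) (Xj Yj : Scheme.{u}) (fj : Xj ⟶ Yj) (gj : Yj ⟶ D.obj j) (pY : Yj ⟶ Y₀)
        (pX : Xj ⟶ X₀) (rX : X ⟶ Xj), IsPullback pY gj g₀ (D.map φ) ∧ IsPullback pX fj f₀ pY ∧
          rX ≫ pX = qX ∧ rX ≫ fj ≫ gj = f ≫ g ≫ c.π.app j ∧ ∃ V : Xj.Opens, rX x ∈ V ∧ P (V.ι ≫ fj) := by
  constructor
  · rintro ⟨U, hxU, hU⟩
    let cX := cone D i₀ (f₀ ≫ g₀) (hX.paste_vert hY)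
    haveI (j k : Over i₀) (φ : j ⟶ k) : IsAffineHom ((diag D i₀ (f₀ ≫ g₀)).map φ) :=
      isAffineHom_map D i₀ (f₀ ≫ g₀) φ
    obtain ⟨-, ⟨j₁, W, hW, rfl⟩, hxW, hWU⟩ := TopologicalSpace.Opens.isBasis_iff_nbhd.mp
      (isBasis_preimage_isAffineOpen (diag D i₀ (f₀ ≫ g₀)) cX
        (isLimitCone D i₀ (f₀ ≫ g₀) (hX.paste_vert hY) hc)) hxU
    let N := (mapNat D i₀ g₀ (f₀ ≫ g₀) f₀ rfl).app j₁
    let g₁ := pullback.snd g₀ (D.map j₁.hom)
    let πX : X ⟶ (diag D i₀ (f₀ ≫ g₀)).obj j₁ := cX.π.app j₁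
    let πY : Y ⟶ (diag D i₀ g₀).obj j₁ := (cone D i₀ g₀ hY).π.app j₁
    haveI : LocallyOfFinitePresentation N :=
      MorphismProperty.of_isPullback (P := @LocallyOfFinitePresentation)
        (isPullback_mapNat D i₀ g₀ (f₀ ≫ g₀) f₀ rfl j₁) inferInstance
    haveI : IsAffine W.toScheme := hW
    have hXN : IsPullback πX f N πY :=
      isPullback_π D i₀ g₀ (f₀ ≫ g₀) hY f₀ rfl (hX.paste_vert hY) f hX.w.symm rfl j₁
    have hY₁ : IsPullback πY g g₁ (c.π.app j₁.left) := by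
      refine IsPullback.of_right ?_ (π_snd D i₀ g₀ hY j₁) (IsPullback.of_hasPullback g₀ (D.map j₁.hom))
      rw [π_fst, c.w]
      exact hY
    have hX₁ : IsPullback (πX ∣_ W) ((πX ⁻¹ᵁ W).ι ≫ f) (W.ι ≫ N) πY :=
      (isPullback_morphismRestrict πX W).paste_vert hXN
    have hP : P ((πX ⁻¹ᵁ W).ι ≫ f) := by
      rw [← X.homOfLE_ι hWU, Category.assoc]
      exact IsZariskiLocalAtSource.comp hU _
    haveI : LocallyOfFinitePresentation (W.ι ≫ N) := inferInstance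
    haveI : CompactSpace W.toScheme := isCompact_iff_compactSpace.mp hW.isCompact
    obtain ⟨i, ψ, Xi, Yi, fi, gi, pY, pX, hYi, hXi, hi⟩ := exists_stage D j₁.left (W.ι ≫ N) g₁ (@P)
      (exists_stage_of_affineCase D hc (W.ι ≫ N) g₁ hY₁ hX₁ P hcomp H hP)
    have hYj : IsPullback (pY ≫ pullback.fst g₀ (D.map j₁.hom)) gi g₀ (D.map (ψ ≫ j₁.hom)) := by
      rw [Functor.map_comp]
      exact hYi.paste_horiz (IsPullback.of_hasPullback g₀ (D.map j₁.hom))
    have hXj : IsPullback (pullback.fst N pY ≫ pullback.fst (f₀ ≫ g₀) (D.map j₁.hom))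
        (pullback.snd N pY) f₀ (pY ≫ pullback.fst g₀ (D.map j₁.hom)) :=
      (IsPullback.of_hasPullback N pY).paste_horiz (isPullback_mapNat D i₀ g₀ (f₀ ≫ g₀) f₀ rfl j₁)
    obtain ⟨rX, rY, hr, hrX, hrg, hrY⟩ := exists_isPullback_stage D f₀ g₀ hY hX hYj hXj
    refine ⟨i, ψ ≫ j₁.hom, _, Yi, pullback.snd N pY, gi, _, _, rX, hYj, hXj, hrX, ?_,
      pullback.fst N pY ⁻¹ᵁ W, ?_, ?_⟩
    · rw [reassoc_of% hr.w, hrg]
    · have hπ : rX ≫ pullback.fst N pY = πX := by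
        apply pullback.hom_ext
        · rw [Category.assoc, π_fst]
          exact hrX
        · rw [Category.assoc, π_snd, ← mapNat_snd D i₀ g₀ (f₀ ≫ g₀) f₀ rfl j₁,
            reassoc_of% (pullback.condition (f := N) (g := pY)), hYi.w, reassoc_of% hr.w,
            reassoc_of% hrg, c.w, Category.assoc]
      show (rX ≫ pullback.fst N pY) x ∈ W
      rw [hπ]
      exact hxW
    · have h := (isPullback_morphismRestrict (pullback.fst N pY) W).paste_vert
        (IsPullback.of_hasPullback N pY)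
      rw [← h.isoIsPullback_hom_snd (W.toScheme) Yi hXi]
      exact (P.cancel_left_of_respectsIso _ _).mpr hi
  · rintro ⟨j, φ, Xj, Yj, fj, gj, pY, pX, rX, hYj, hXj, hrX, hrg, V, hxV, hV⟩
    obtain ⟨rX', rY, h, hrX', hrY', hrYp⟩ := exists_isPullback_stage D f₀ g₀ hY hX hYj hXj
    have hfj : rX ≫ fj = f ≫ rY := by
      apply hYj.hom_ext
      · rw [Category.assoc, Category.assoc, hrYp, ← hXj.w, reassoc_of% hrX, hX.w]
      · rw [Category.assoc, Category.assoc, hrY', hrg]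
    have heq : rX = rX' := by
      apply hXj.hom_ext
      · rw [hrX, hrX']
      · rw [hfj, h.w]
    subst heq
    exact ⟨rX ⁻¹ᵁ V, hxV, MorphismProperty.of_isPullback
      ((isPullback_morphismRestrict rX V).paste_vert h) hV⟩

/-- Smoothness is preserved by open immersions on the target. -/
theorem smooth_comp_openImmersion {A B C : Scheme.{u}} (a : A ⟶ B) (b : B ⟶ C) [IsOpenImmersion b]
    (h : Smooth a) : Smooth (a ≫ b) :=
  MorphismProperty.RespectsRight.postcomp (P := @Smooth) (Q := @IsOpenImmersion) b inferInstance a h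

theorem etale_comp_openImmersion {A B C : Scheme.{u}} (a : A ⟶ B) (b : B ⟶ C) [IsOpenImmersion b]
    (h : Etale a) : Etale (a ≫ b) :=
  inferInstance

theorem formallyUnramified_comp_openImmersion {A B C : Scheme.{u}} (a : A ⟶ B) (b : B ⟶ C)
    [IsOpenImmersion b] (h : FormallyUnramified a) : FormallyUnramified (a ≫ b) :=
  haveI : FormallyUnramified b := inferInstance
  MorphismProperty.comp_mem @FormallyUnramified a b h this

end GrothLib.LimSmooth
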