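import Groth.Agent.Lib.LimSmooth.Algebra
import Groth.Agent.Lib.FlatLimit.Scheme
import Mathlib.AlgebraicGeometry.Morphisms.Smooth

/-!
# Smooth, étale and unramified morphisms descend along limits: affine case
-/

set_option autoImplicit false
set_option backward.isDefEq.respectTransparency false
set_option linter.style.haveILetI false
universe u

open CategoryTheory Limits AlgebraicGeometry TensorProduct

noncomputable section

namespace GrothLib.LimSmooth

open GrothLib.LimDesc

/-- A ring homomorphism in a pushout square is smooth iff the tensor product is. -/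
theorem smooth_tensor_of_isPushout {A₀ A B₀ B : CommRingCat.{u}} {p : A₀ ⟶ A} {q : A₀ ⟶ B₀}
    {r : A ⟶ B} {s : B₀ ⟶ B} (h : IsPushout p q r s) :
    r.hom.Smooth ↔
      letI := p.hom.toAlgebra; letI := q.hom.toAlgebra
      Algebra.Smooth A (A ⊗[A₀] B₀) := by
  letI := p.hom.toAlgebra
  letI := q.hom.toAlgebra
  letI := r.hom.toAlgebra
  letI := s.hom.toAlgebra
  letI : Algebra A₀ B := (p ≫ r).hom.toAlgebra
  haveI : IsScalarTower A₀ A B := IsScalarTower.of_algebraMap_eq fun x => rfl
  haveI : IsScalarTower A₀ B₀ B := IsScalarTower.of_algebraMap_eq fun x => congr($(h.w).hom x)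
  haveI : Algebra.IsPushout A₀ A B₀ B := CommRingCat.isPushout_iff_isPushout.mp h
  have e := Algebra.IsPushout.equiv A₀ A B₀ B
  rw [show r.hom = algebraMap A B from rfl, RingHom.smooth_algebraMap]
  exact ⟨fun _ => Algebra.Smooth.of_equiv e.symm, fun _ => Algebra.Smooth.of_equiv e⟩

/-- Smooth morphisms descend, affine case. -/
theorem affineCase_smooth : AffineCase @Smooth := by
  intro J _ _ D _ c hc i₀ _ X₀ _ a _ X f q hX hf
  classical
  let E := Over.forget i₀ ⋙ D
  have hE : IsLimit (Cone.whisker (Over.forget i₀) c) :=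
    (Functor.Initial.isLimitWhiskerEquiv (Over.forget i₀) c).symm hc
  haveI (j : Over i₀) : IsAffine (D.obj j.left) := isAffine_of_isAffineHom (D.map j.hom)
  haveI (j : Over i₀) : IsAffine (E.obj j) := isAffine_of_isAffineHom (D.map j.hom)
  haveI (j : Over i₀) : CompactSpace (E.obj j) := isCompact_univ_iff.mp (isAffineOpen_top _).isCompact
  haveI : IsAffine c.pt := Scheme.isAffine_of_isLimit (Cone.whisker (Over.forget i₀) c) hE
  haveI : IsAffine X := IsAffine.of_isIso hX.isoPullback.hom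
  haveI (j : Over i₀) : IsAffine (pullback a (D.map j.hom)) :=
    isAffine_of_isAffineHom (pullback.fst a (D.map j.hom))
  let A₀ := Γ(D.obj i₀, ⊤)
  let B₀ := Γ(X₀, ⊤)
  letI : Algebra A₀ Γ(c.pt, ⊤) := (c.π.app i₀).appTop.hom.toAlgebra
  letI (j : Over i₀) : Algebra A₀ Γ(D.obj j.left, ⊤) := (D.map j.hom).appTop.hom.toAlgebra
  letI (j : Over i₀) : Algebra Γ(D.obj j.left, ⊤) Γ(c.pt, ⊤) :=
    (c.π.app j.left).appTop.hom.toAlgebra
  haveI (j : Over i₀) : IsScalarTower A₀ Γ(D.obj j.left, ⊤) Γ(c.pt, ⊤) :=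
    IsScalarTower.of_algebraMap_eq fun x => (appTop_eq_of_comp _ _ _ (c.w j.hom) x).symm
  letI : Algebra A₀ B₀ := a.appTop.hom.toAlgebra
  haveI : Algebra.FinitePresentation A₀ B₀ :=
    HasRingHomProperty.appTop @LocallyOfFinitePresentation a inferInstance
  haveI : Algebra.Smooth Γ(c.pt, ⊤) (Γ(c.pt, ⊤) ⊗[A₀] B₀) :=
    (smooth_tensor_of_isPushout (isPushout_appTop_of_isPullback hX.flip)).mp
      (HasRingHomProperty.appTop @Smooth f hf)
  let tr : ∀ {k j : Over i₀}, (k ⟶ j) → Γ(D.obj j.left, ⊤) →ₐ[A₀] Γ(D.obj k.left, ⊤) :=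
    fun {k j} φ => { (D.map φ.left).appTop.hom with
      commutes' := fun x => appTop_eq_of_comp _ _ _ (by rw [← D.map_comp, Over.w φ]) x }
  have htr : ∀ {k j : Over i₀} (φ : k ⟶ j) (x : Γ(D.obj j.left, ⊤)),
      (c.π.app k.left).appTop (tr φ x) = (c.π.app j.left).appTop x :=
    fun {k j} φ x => appTop_eq_of_comp _ _ _ (c.w φ.left) x
  obtain ⟨j, hj⟩ := exists_stage_formallySmooth (A := Γ(c.pt, ⊤))
    (fun j : Over i₀ => Γ(D.obj j.left, ⊤))
    (fun T => by
      induction T using Finset.induction_on with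
      | empty => exact ⟨Over.mk (𝟙 i₀), by simp⟩
      | insert b T _ ih =>
        obtain ⟨j, hj⟩ := ih
        obtain ⟨j', t, ht⟩ := exists_appTop_π_eq_of_isAffine_of_isLimit E _ hE b
        refine ⟨IsCofiltered.min j j', fun x hx => ?_⟩
        rcases Finset.mem_insert.1 (Finset.mem_coe.1 hx) with rfl | hx
        · exact ⟨tr (IsCofiltered.minToRight j j') t,
            (htr (IsCofiltered.minToRight j j') t).trans ht⟩
        · obtain ⟨y, hy⟩ := hj (Finset.mem_coe.2 hx)
          exact ⟨tr (IsCofiltered.minToLeft j j') y,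
            (htr (IsCofiltered.minToLeft j j') y).trans hy⟩)
    (fun j p hp => by
      induction p using Finset.induction_on with
      | empty => exact ⟨j, AlgHom.id A₀ _, fun _ => rfl, by simp⟩
      | insert b p _ ih =>
        obtain ⟨k, ψ, hψ, hψp⟩ := ih fun x hx => hp x (Finset.mem_insert_of_mem hx)
        obtain ⟨l, φ, hl⟩ := exists_appTop_map_eq_zero_of_isLimit E _ hE (i := k) (ψ b.1 - ψ b.2) (by
          rw [map_sub, sub_eq_zero]
          exact (hψ b.1).trans ((hp b (Finset.mem_insert_self b p)).trans (hψ b.2).symm))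
        refine ⟨l, (tr φ).comp ψ, fun x => (htr φ (ψ x)).trans (hψ x), fun x hx => ?_⟩
        rcases Finset.mem_insert.1 hx with rfl | hx
        · rw [map_sub, sub_eq_zero] at hl
          exact hl
        · rw [AlgHom.comp_apply, AlgHom.comp_apply, hψp x hx])
    B₀
  haveI := hj
  exact ⟨j, (HasRingHomProperty.iff_of_isAffine (P := @Smooth)).mpr
    ((smooth_tensor_of_isPushout
      (isPushout_appTop_of_isPullback (IsPullback.of_hasPullback a (D.map j.hom)).flip)).mpr
      ⟨hj, inferInstance⟩)⟩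

/-- A stage of the two-morphism form with identity target gives a stage of the single form. -/
theorem snd_of_mapNat_id (P : MorphismProperty Scheme.{u}) [P.RespectsIso] {J : Type u}
    [SmallCategory J] (E : J ⥤ Scheme.{u}) {j₀ : J} {U : Scheme.{u}} (a : U ⟶ E.obj j₀) (j : Over j₀)
    (h : P ((mapNat E j₀ (𝟙 (E.obj j₀)) (a ≫ 𝟙 _) a rfl).app j)) :
    P (pullback.snd a (E.map j.hom)) := by
  let e : pullback (a ≫ 𝟙 _) (E.map j.hom) ≅ pullback a (E.map j.hom) :=
    pullback.congrHom (Category.comp_id a) rfl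
  have he : e.hom ≫ pullback.snd a (E.map j.hom) =
      (mapNat E j₀ (𝟙 (E.obj j₀)) (a ≫ 𝟙 _) a rfl).app j ≫ pullback.snd (𝟙 _) (E.map j.hom) := by
    rw [mapNat_snd]; simp [e]
  rw [← P.cancel_left_of_respectsIso e.hom, he]
  exact (P.cancel_right_of_respectsIso _ _).mpr h

/-- Formally unramified morphisms descend, affine case. -/
theorem affineCase_formallyUnramified : AffineCase @FormallyUnramified := by
  intro J _ _ D _ c hc i₀ _ X₀ _ a _ X f q hX hf
  haveI := hf
  obtain ⟨j, hj⟩ := exists_formallyUnramified D hc a (𝟙 (D.obj i₀)) (X := X) (f := f) (g := 𝟙 c.pt)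
    (IsPullback.of_vert_isIso ⟨by simp⟩) hX
  exact ⟨j, snd_of_mapNat_id @FormallyUnramified D a j hj⟩

/-- Étale morphisms descend, affine case. -/
theorem affineCase_etale : AffineCase @Etale := by
  intro J _ _ D _ c hc i₀ _ X₀ _ a _ X f q hX hf
  haveI := hf
  obtain ⟨j, hj⟩ := exists_etale D hc a (𝟙 (D.obj i₀)) (X := X) (f := f) (g := 𝟙 c.pt)
    (IsPullback.of_vert_isIso ⟨by simp⟩) hX
  exact ⟨j, snd_of_mapNat_id @Etale D a j hj⟩

end GrothLib.LimSmooth
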