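import Mathlib.RingTheory.Smooth.Basic
import Mathlib.RingTheory.Extension.Presentation.Basic
import Mathlib.RingTheory.TensorProduct.MvPolynomial

/-!
# Formal smoothness of a finitely presented algebra comes from a stage of a colimit

A finitely presented algebra `MvPolynomial ι C ⧸ (g₁, …, gₘ)` is formally smooth iff there are
polynomials `p i ≡ X i` modulo the relations with `g k (p) ∈ (g)²`; this finite datum descends.
-/

universe u v w

open TensorProduct MvPolynomial

namespace GrothLib.LimSmooth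

variable {C : Type u} [CommRing C] {ι σ : Type*}

/-- The section criterion for formal smoothness of a presented algebra. -/
theorem formallySmooth_iff_exists {B : Type u} [CommRing B] [Algebra C B]
    (f : MvPolynomial ι C →ₐ[C] B) (hf : Function.Surjective f) (g : σ → MvPolynomial ι C)
    (hker : RingHom.ker f = Ideal.span (Set.range g)) :
    Algebra.FormallySmooth C B ↔
      ∃ p : ι → MvPolynomial ι C, (∀ i, p i - X i ∈ Ideal.span (Set.range g)) ∧
        ∀ k, aeval p (g k) ∈ Ideal.span (Set.range g) ^ 2 := by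
  rw [Algebra.FormallySmooth.iff_split_surjection f hf, ← hker]
  constructor
  · rintro ⟨s, hs⟩
    choose p hp using fun i => Ideal.Quotient.mk_surjective (s (f (X i)))
    have hcomp : (Ideal.Quotient.mkₐ C (RingHom.ker f ^ 2)).comp (aeval p) = s.comp f :=
      algHom_ext fun i => (congrArg (Ideal.Quotient.mk _) (aeval_X p i)).trans (hp i)
    refine ⟨p, fun i => ?_, fun k => ?_⟩
    · have h : f.kerSquareLift (s (f (X i))) = f (X i) := congr($hs (f (X i)))
      rw [← hp] at h
      rw [RingHom.mem_ker, map_sub, sub_eq_zero]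
      exact h
    · refine (Ideal.Quotient.eq_zero_iff_mem).mp ((congr($hcomp (g k))).trans ?_)
      have h : g k ∈ RingHom.ker f := hker ▸ Ideal.subset_span ⟨k, rfl⟩
      show s (f (g k)) = _
      rw [RingHom.mem_ker.mp h]
      exact map_zero s
  · rintro ⟨p, hp, hg⟩
    let q : MvPolynomial ι C →ₐ[C] MvPolynomial ι C ⧸ RingHom.ker f ^ 2 :=
      (Ideal.Quotient.mkₐ C _).comp (aeval p)
    have hle : RingHom.ker f ≤ RingHom.ker q := by
      conv_lhs => rw [hker]
      rw [Ideal.span_le]
      rintro - ⟨k, rfl⟩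
      exact Ideal.Quotient.eq_zero_iff_mem.mpr (hg k)
    let s : B →ₐ[C] MvPolynomial ι C ⧸ RingHom.ker f ^ 2 :=
      (Ideal.Quotient.liftₐ _ q fun a ha => hle ha).comp
        (Ideal.quotientKerAlgEquivOfSurjective hf).symm.toAlgHom
    refine ⟨s, ?_⟩
    rw [← AlgHom.cancel_right hf]
    refine algHom_ext fun i => ?_
    have h1 : (Ideal.quotientKerAlgEquivOfSurjective hf).symm (f (X i)) = Ideal.Quotient.mk _ (X i) :=
      (Ideal.quotientKerAlgEquivOfSurjective hf).symm_apply_apply (Ideal.Quotient.mk _ (X i))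
    have h2 : s (f (X i)) = Ideal.Quotient.mk _ (p i) := by
      show Ideal.Quotient.liftₐ _ q (fun a ha => hle ha) ((Ideal.quotientKerAlgEquivOfSurjective hf).symm (f (X i))) = _
      rw [h1]
      exact congrArg (Ideal.Quotient.mk _) (aeval_X p i)
    show f.kerSquareLift (s (f (X i))) = f (X i)
    rw [h2]
    show f (p i) = f (X i)
    rw [← sub_eq_zero, ← map_sub]
    exact hp i

/-- The criterion with explicit coefficients. -/
theorem mem_span_sq_iff [Fintype σ] {R : Type*} [CommRing R] (g : σ → R) (x : R) :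
    x ∈ Ideal.span (Set.range g) ^ 2 ↔ ∃ b : σ × σ → R, ∑ ab, b ab * (g ab.1 * g ab.2) = x := by
  rw [pow_two, Ideal.span_mul_span', ← Ideal.mem_span_range_iff_exists_fun]
  refine Iff.of_eq (congrArg (x ∈ Ideal.span ·) ?_)
  ext y
  simp [Set.mem_mul]

variable {A₀ A : Type u} [CommRing A₀] [CommRing A] [Algebra A₀ A]
  {J : Type v} (G : J → Type u) [∀ i, CommRing (G i)] [∀ i, Algebra A₀ (G i)]
  [∀ i, Algebra (G i) A] [∀ i, IsScalarTower A₀ (G i) A]

/-- **Formal smoothness comes from a stage.** -/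
theorem exists_stage_formallySmooth
    (hlift : ∀ T : Finset A, ∃ i, (T : Set A) ⊆ Set.range (algebraMap (G i) A))
    (heq : ∀ i (p : Finset (G i × G i)),
      (∀ x ∈ p, algebraMap (G i) A x.1 = algebraMap (G i) A x.2) →
      ∃ j, ∃ ψ : G i →ₐ[A₀] G j, (∀ x, algebraMap (G j) A (ψ x) = algebraMap (G i) A x) ∧
        ∀ x ∈ p, ψ x.1 = ψ x.2)
    (B₀ : Type u) [CommRing B₀] [Algebra A₀ B₀] [Algebra.FinitePresentation A₀ B₀]
    [Algebra.FormallySmooth A (A ⊗[A₀] B₀)] :
    ∃ i, Algebra.FormallySmooth (G i) (G i ⊗[A₀] B₀) := by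
  classical
  let P := Algebra.Presentation.ofFinitePresentation A₀ B₀
  let n := Algebra.Presentation.ofFinitePresentationVars A₀ B₀
  let m := Algebra.Presentation.ofFinitePresentationRels A₀ B₀
  let g : ∀ (C : Type u) [CommRing C] [Algebra A₀ C], Fin m → MvPolynomial (Fin n) C :=
    fun C _ _ k => MvPolynomial.map (algebraMap A₀ C) (P.relation k)
  have crit : ∀ (C : Type u) [CommRing C] [Algebra A₀ C],
      Algebra.FormallySmooth C (C ⊗[A₀] B₀) ↔
        ∃ (p : Fin n → MvPolynomial (Fin n) C) (a : Fin n → Fin m → MvPolynomial (Fin n) C)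
          (b : Fin m → Fin m × Fin m → MvPolynomial (Fin n) C),
          (∀ i, ∑ k, a i k * g C k = p i - X i) ∧
          ∀ k, ∑ ab, b k ab * (g C ab.1 * g C ab.2) = aeval p (g C k) := by
    intro C _ _
    rw [formallySmooth_iff_exists (aeval (P.baseChange C).val)
      (P.baseChange C).toGenerators.algebraMap_surjective (g C)
      (P.baseChange C).span_range_relation_eq_ker.symm]
    simp only [Ideal.mem_span_range_iff_exists_fun, mem_span_sq_iff]
    constructor
    · rintro ⟨p, ha, hb⟩
      choose a ha using ha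
      choose b hb using hb
      exact ⟨p, a, b, ha, hb⟩
    · rintro ⟨p, a, b, ha, hb⟩
      exact ⟨p, fun i => ⟨_, ha i⟩, fun k => ⟨_, hb k⟩⟩
  obtain ⟨p, a, b, ha, hb⟩ := (crit A).mp inferInstance
  obtain ⟨i, hi⟩ := hlift ((Finset.univ.biUnion fun x => (p x).coeffs) ∪
    (Finset.univ.biUnion fun x : Fin n × Fin m => (a x.1 x.2).coeffs) ∪
    (Finset.univ.biUnion fun x : Fin m × (Fin m × Fin m) => (b x.1 x.2).coeffs))
  simp only [Finset.coe_union, Finset.coe_biUnion, Finset.coe_univ, Set.mem_univ, Set.iUnion_true,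
    Set.union_subset_iff, Set.iUnion_subset_iff, Prod.forall,
    ← MvPolynomial.mem_range_map_iff_coeffs_subset] at hi
  choose p' hp' using hi.1.1
  choose a' ha' using hi.1.2
  choose b' hb' using hi.2
  have hg : ∀ (k : Fin m), MvPolynomial.map (algebraMap (G i) A) (g (G i) k) = g A k := fun k => by
    simp only [g, MvPolynomial.map_map, ← IsScalarTower.algebraMap_eq]
  have hev : ∀ k, MvPolynomial.map (algebraMap (G i) A) (aeval p' (g (G i) k)) = aeval p (g A k) := fun k => by
    rw [MvPolynomial.map_aeval, ← hg, MvPolynomial.aeval_def, MvPolynomial.eval₂_map,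
      MvPolynomial.coe_eval₂Hom]
    congr 1
    · ext x; simp
    · exact funext hp'
  let e₁ : Fin n → MvPolynomial (Fin n) (G i) × MvPolynomial (Fin n) (G i) :=
    fun x => (∑ k, a' x k * g (G i) k, p' x - X x)
  let e₂ : Fin m → MvPolynomial (Fin n) (G i) × MvPolynomial (Fin n) (G i) :=
    fun k => (∑ ab : Fin m × Fin m, b' k ab.1 ab.2 * (g (G i) ab.1 * g (G i) ab.2), aeval p' (g (G i) k))
  let es := Finset.univ.image e₁ ∪ Finset.univ.image e₂
  have hes : ∀ e ∈ es, MvPolynomial.map (algebraMap (G i) A) e.1 =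
      MvPolynomial.map (algebraMap (G i) A) e.2 := by
    intro e he
    simp only [es, Finset.mem_union, Finset.mem_image, Finset.mem_univ, true_and] at he
    rcases he with ⟨x, rfl⟩ | ⟨k, rfl⟩
    · simp only [e₁, map_sum, map_mul, map_sub, MvPolynomial.map_X, ha', hg, hp', ha]
    · simp only [e₂, map_sum, map_mul, hb', hg, hev, hb]
  obtain ⟨j, ψ, hψ, hψeq⟩ := heq i
    (es.biUnion fun e => (e.1.support ∪ e.2.support).image fun s => (e.1.coeff s, e.2.coeff s)) (by
      simp only [Finset.mem_biUnion, Finset.mem_image]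
      rintro - ⟨e, he, s, -, rfl⟩
      simpa [MvPolynomial.coeff_map] using congr(MvPolynomial.coeff s $(hes e he)))
  have hmap : ∀ e ∈ es, MvPolynomial.map ψ.toRingHom e.1 = MvPolynomial.map ψ.toRingHom e.2 := by
    intro e he
    ext s
    simp only [MvPolynomial.coeff_map]
    by_cases hs : s ∈ e.1.support ∪ e.2.support
    · exact hψeq (e.1.coeff s, e.2.coeff s)
        (Finset.mem_biUnion.mpr ⟨e, he, Finset.mem_image.mpr ⟨s, hs, rfl⟩⟩)
    · simp only [Finset.mem_union, MvPolynomial.mem_support_iff, not_or, not_not] at hs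
      rw [hs.1, hs.2]
  have hgj : ∀ k, MvPolynomial.map ψ.toRingHom (g (G i) k) = g (G j) k := fun k => by
    simp only [g, MvPolynomial.map_map]
    congr 2
    exact RingHom.ext ψ.commutes
  refine ⟨j, (crit (G j)).mpr ⟨fun x => MvPolynomial.map ψ.toRingHom (p' x),
    fun x k => MvPolynomial.map ψ.toRingHom (a' x k),
    fun k ab => MvPolynomial.map ψ.toRingHom (b' k ab.1 ab.2), fun x => ?_, fun k => ?_⟩⟩
  · have h := hmap (e₁ x) (Finset.mem_union_left _ (Finset.mem_image_of_mem _ (Finset.mem_univ x)))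
    simp only [e₁, map_sum, map_mul, map_sub, MvPolynomial.map_X, hgj] at h
    exact h
  · have h := hmap (e₂ k) (Finset.mem_union_right _ (Finset.mem_image_of_mem _ (Finset.mem_univ k)))
    simp only [e₂, map_sum, map_mul, hgj] at h
    rw [h, MvPolynomial.map_aeval, ← hgj, MvPolynomial.aeval_def, MvPolynomial.eval₂_map,
      MvPolynomial.coe_eval₂Hom]
    congr 1
    ext x; simp

end GrothLib.LimSmooth
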